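import Mathlib

/-!
# Power graphs: basic facts on comparability of elements inside a cyclic subgroup

`adj x y` is adjacency in the (reflexive, undirected) power graph.  Inside a finite cyclic subgroup
`zpowers z` membership `x ∈ zpowers y` is divisibility of orders; when `orderOf z = p ^ a * m'`
with `m' > 1` prime to `p`, the two "hubs" `z ^ m'` and `z ^ (p ^ a)` are not adjacent and every
element of `zpowers z` other than `1` and the generators is non-adjacent to one of them.
-/

set_option autoImplicit false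

namespace Cfsg.Agent.Lib.Helper5.PG

open Subgroup

section basic
variable {G : Type*} [Group G]

/-- adjacency in the (reflexive) undirected power graph -/
def adj (x y : G) : Prop := x ∈ zpowers y ∨ y ∈ zpowers x

theorem adj_comm {x y : G} : adj x y ↔ adj y x := or_comm

theorem adj_self (x : G) : adj x x := Or.inl (mem_zpowers x)

theorem adj_one (x : G) : adj 1 x := Or.inl (one_mem _)

theorem adj_pow (x : G) (n : ℕ) : adj x (x ^ n) := Or.inr (pow_mem (mem_zpowers x) n)

theorem adj_of_mem_of_mem {a b w : G} (ha : a ∈ zpowers w) (hb : w ∈ zpowers b) : adj a b :=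
  Or.inl ((zpowers_le.2 hb) ha)

theorem zpowers_eq_of_mem_of_mem {x y : G} (h1 : x ∈ zpowers y) (h2 : y ∈ zpowers x) :
    zpowers x = zpowers y :=
  le_antisymm (zpowers_le.2 h1) (zpowers_le.2 h2)

theorem adj_congr_left {x x' : G} (h : zpowers x = zpowers x') (v : G) : adj x v ↔ adj x' v := by
  unfold adj
  have h1 : x ∈ zpowers v ↔ x' ∈ zpowers v := by
    rw [← zpowers_le, ← zpowers_le, h]
  rw [h1, h]

theorem zpowers_eq_of_mem_of_orderOf_eq [Finite G] {x z : G} (hx : x ∈ zpowers z)
    (ho : orderOf x = orderOf z) : zpowers x = zpowers z := by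
  apply Subgroup.eq_of_le_of_card_ge (zpowers_le.2 hx)
  rw [Nat.card_zpowers, Nat.card_zpowers, ho]

theorem mem_zpowers_iff_dvd [Finite G] {z x y : G} (hx : x ∈ zpowers z) (hy : y ∈ zpowers z) :
    x ∈ zpowers y ↔ orderOf x ∣ orderOf y := by
  constructor
  · exact orderOf_dvd_of_mem_zpowers
  · intro hd
    classical
    have : Fintype (zpowers z) := Fintype.ofFinite _
    let a : zpowers z := ⟨x, hx⟩
    let b : zpowers z := ⟨y, hy⟩
    have hb0 : 0 < orderOf b := orderOf_pos b
    have hle := IsCyclic.card_pow_eq_one_le (α := zpowers z) hb0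
    let T : Set (zpowers z) := {c | c ^ orderOf b = 1}
    have hTc : T.ncard ≤ orderOf b := by
      rw [Set.ncard_eq_toFinset_card']
      simpa [T] using hle
    have hsub : (zpowers b : Set (zpowers z)) ⊆ T := by
      intro c hc
      have hc' : c ∈ zpowers b := hc
      have := orderOf_dvd_of_mem_zpowers hc'
      exact orderOf_dvd_iff_pow_eq_one.1 this
    have hbc : (zpowers b : Set (zpowers z)).ncard = orderOf b := by
      rw [← Nat.card_coe_set_eq]
      exact Nat.card_zpowers b
    have heq : (zpowers b : Set (zpowers z)) = T :=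
      Set.eq_of_subset_of_ncard_le hsub (by rw [hbc]; exact hTc) (Set.toFinite _)
    have ha : a ∈ T := by
      have h1 : orderOf a = orderOf x := Subgroup.orderOf_mk x hx
      have h2 : orderOf b = orderOf y := Subgroup.orderOf_mk y hy
      show a ^ orderOf b = 1
      apply orderOf_dvd_iff_pow_eq_one.1
      rw [h1, h2]; exact hd
    rw [← heq] at ha
    have ha' : a ∈ zpowers b := ha
    obtain ⟨k, hk⟩ := mem_zpowers_iff.1 ha'
    refine mem_zpowers_iff.2 ⟨k, ?_⟩
    have := congrArg (fun c : zpowers z => (c : G)) hk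
    simpa [a, b] using this

end basic

section dec

/-- decomposition data `n = p ^ a * m'` with `m' > 1` prime to `p` -/
structure Dec (n p a m' : ℕ) : Prop where
  prime : p.Prime
  apos : 0 < a
  one_lt : 1 < m'
  cop : Nat.Coprime p m'
  eq : n = p ^ a * m'

/-- `n` is divisible by two distinct primes -/
def TwoPr (n : ℕ) : Prop := ∃ p q : ℕ, p.Prime ∧ q.Prime ∧ p ≠ q ∧ p ∣ n ∧ q ∣ n

theorem TwoPr.mono {n n' : ℕ} (h : TwoPr n) (hd : n ∣ n') : TwoPr n' := by
  obtain ⟨p, q, hp, hq, hpq, hpn, hqn⟩ := h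
  exact ⟨p, q, hp, hq, hpq, hpn.trans hd, hqn.trans hd⟩

theorem dec_of {n p q : ℕ} (hn : n ≠ 0) (hp : p.Prime) (hq : q.Prime) (hpq : p ≠ q) (hpn : p ∣ n)
    (hqn : q ∣ n) : Dec n p (n.factorization p) (n / p ^ n.factorization p) ∧
      q ∣ n / p ^ n.factorization p := by
  have heq : p ^ n.factorization p * (n / p ^ n.factorization p) = n :=
    Nat.ordProj_mul_ordCompl_eq_self n p
  have hcop : Nat.Coprime p (n / p ^ n.factorization p) := Nat.coprime_ordCompl hp hn
  have hqd : q ∣ n / p ^ n.factorization p := by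
    have h1 : q ∣ p ^ n.factorization p * (n / p ^ n.factorization p) := by rw [heq]; exact hqn
    have h2 : Nat.Coprime q (p ^ n.factorization p) :=
      Nat.Coprime.pow_right _ ((Nat.coprime_primes hq hp).2 (Ne.symm hpq))
    exact h2.dvd_of_dvd_mul_left h1
  refine ⟨⟨hp, hp.factorization_pos_of_dvd hn hpn, ?_, hcop, heq.symm⟩, hqd⟩
  have hpos : 0 < n / p ^ n.factorization p := by
    rcases Nat.eq_zero_or_pos (n / p ^ n.factorization p) with h0 | h0
    · rw [h0, mul_zero] at heq; exact absurd heq.symm hn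
    · exact h0
  exact lt_of_lt_of_le hq.one_lt (Nat.le_of_dvd hpos hqd)

theorem TwoPr.exists_dec {n : ℕ} (hn : n ≠ 0) (h : TwoPr n) :
    ∃ p a m' : ℕ, Dec n p a m' ∧ 3 ≤ m' := by
  obtain ⟨p, q, hp, hq, hpq, hpn, hqn⟩ := h
  obtain ⟨h1, h1q⟩ := dec_of hn hp hq hpq hpn hqn
  obtain ⟨h2, h2p⟩ := dec_of hn hq hp (Ne.symm hpq) hqn hpn
  by_cases h3 : 3 ≤ n / p ^ n.factorization p
  · exact ⟨p, _, _, h1, h3⟩
  · have h4 : n / p ^ n.factorization p = 2 := by
      have := h1.one_lt
      omega
    have hq2 : q = 2 := by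
      rw [h4] at h1q
      exact (Nat.prime_dvd_prime_iff_eq hq Nat.prime_two).1 h1q
    have hp3 : 3 ≤ p := by
      have := hp.two_le
      have : p ≠ 2 := fun h => hpq (h.trans hq2.symm)
      omega
    refine ⟨q, _, _, h2, ?_⟩
    have hpos : 0 < n / q ^ n.factorization q := lt_trans Nat.zero_lt_one h2.one_lt
    exact le_trans hp3 (Nat.le_of_dvd hpos h2p)

theorem exists_prime_pow_of_not_twoPr {n : ℕ} (hn : n ≠ 0) (hn1 : n ≠ 1) (h : ¬ TwoPr n) :
    ∃ l t : ℕ, l.Prime ∧ 0 < t ∧ n = l ^ t := by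
  have hl : (n.minFac).Prime := Nat.minFac_prime hn1
  have huniq : ∀ {d : ℕ}, d.Prime → d ∣ n → d = n.minFac := by
    intro d hd hdn
    by_contra hne
    exact h ⟨d, n.minFac, hd, hl, hne, hdn, Nat.minFac_dvd n⟩
  have := Nat.eq_prime_pow_of_unique_prime_dvd hn huniq
  refine ⟨n.minFac, n.primeFactorsList.length, hl, ?_, this⟩
  rcases Nat.eq_zero_or_pos n.primeFactorsList.length with h0 | h0
  · rw [h0, pow_zero] at this; exact absurd this hn1
  · exact h0

end dec

section hub
variable {G : Type*} [Group G]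

theorem orderOf_hub₁ {z : G} {p a m' : ℕ} (hd : Dec (orderOf z) p a m') :
    orderOf (z ^ m') = p ^ a := by
  have hm : m' ≠ 0 := by have := hd.one_lt; omega
  rw [orderOf_pow_of_dvd hm (by rw [hd.eq]; exact dvd_mul_left _ _), hd.eq]
  exact Nat.mul_div_cancel _ (Nat.pos_of_ne_zero hm)

theorem orderOf_hub₂ {z : G} {p a m' : ℕ} (hd : Dec (orderOf z) p a m') :
    orderOf (z ^ (p ^ a)) = m' := by
  have hm : p ^ a ≠ 0 := pow_ne_zero _ hd.prime.ne_zero
  rw [orderOf_pow_of_dvd hm (by rw [hd.eq]; exact dvd_mul_right _ _), hd.eq]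
  exact Nat.mul_div_cancel_left _ (Nat.pos_of_ne_zero hm)

theorem Dec.not_pow_dvd {n p a m' : ℕ} (hd : Dec n p a m') : ¬ p ^ a ∣ m' := by
  intro h
  have h1 : p ∣ m' := (dvd_pow_self p (Nat.pos_iff_ne_zero.1 hd.apos)).trans h
  have := Nat.Coprime.eq_one_of_dvd hd.cop h1
  exact hd.prime.one_lt.ne' this

theorem Dec.not_dvd_pow {n p a m' : ℕ} (hd : Dec n p a m') : ¬ m' ∣ p ^ a := by
  intro h
  have h1 : Nat.Coprime m' (p ^ a) := Nat.Coprime.pow_right _ hd.cop.symm
  have := Nat.Coprime.eq_one_of_dvd h1 h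
  exact hd.one_lt.ne' this

variable [Finite G]

theorem hub_not_adj {z : G} {p a m' : ℕ} (hd : Dec (orderOf z) p a m') :
    ¬ adj (z ^ m') (z ^ (p ^ a)) := by
  have h1 : z ^ m' ∈ zpowers z := pow_mem (mem_zpowers z) _
  have h2 : z ^ (p ^ a) ∈ zpowers z := pow_mem (mem_zpowers z) _
  rintro (h | h)
  · rw [mem_zpowers_iff_dvd h1 h2, orderOf_hub₁ hd, orderOf_hub₂ hd] at h
    exact hd.not_pow_dvd h
  · rw [mem_zpowers_iff_dvd h2 h1, orderOf_hub₁ hd, orderOf_hub₂ hd] at h
    exact hd.not_dvd_pow h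

/-- every element of `zpowers z` other than `1` and the generators misses one of the two hubs -/
theorem hub {z x : G} {p a m' : ℕ} (hd : Dec (orderOf z) p a m') (hx : x ∈ zpowers z)
    (hx1 : x ≠ 1) (hxz : z ∉ zpowers x) : ¬ adj x (z ^ m') ∨ ¬ adj x (z ^ (p ^ a)) := by
  by_contra hcon
  obtain ⟨c1, c2⟩ := not_or.1 hcon
  have c1 := not_not.1 c1
  have c2 := not_not.1 c2
  have h1 : z ^ m' ∈ zpowers z := pow_mem (mem_zpowers z) _
  have h2 : z ^ (p ^ a) ∈ zpowers z := pow_mem (mem_zpowers z) _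
  have hdz : orderOf x ∣ orderOf z := orderOf_dvd_of_mem_zpowers hx
  have hd1 : orderOf x ≠ 1 := fun h => hx1 (orderOf_eq_one_iff.1 h)
  have e1 : orderOf x ∣ p ^ a ∨ p ^ a ∣ orderOf x := by
    rcases c1 with c | c
    · left; have := (mem_zpowers_iff_dvd hx h1).1 c; rwa [orderOf_hub₁ hd] at this
    · right; have := (mem_zpowers_iff_dvd h1 hx).1 c; rwa [orderOf_hub₁ hd] at this
  have e2 : orderOf x ∣ m' ∨ m' ∣ orderOf x := by
    rcases c2 with c | c
    · left; have := (mem_zpowers_iff_dvd hx h2).1 c; rwa [orderOf_hub₂ hd] at this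
    · right; have := (mem_zpowers_iff_dvd h2 hx).1 c; rwa [orderOf_hub₂ hd] at this
  have hcop : Nat.Coprime (p ^ a) m' := Nat.Coprime.pow_left _ hd.cop
  rcases e1 with e1 | e1 <;> rcases e2 with e2 | e2
  · exact hd1 (Nat.eq_one_of_dvd_coprimes hcop e1 e2)
  · exact hd.not_dvd_pow (e2.trans e1)
  · exact hd.not_pow_dvd (e1.trans e2)
  · have h3 : orderOf z ∣ orderOf x := by
      rw [hd.eq]; exact hcop.mul_dvd_of_dvd_of_dvd e1 e2
    have h4 : orderOf x = orderOf z := Nat.dvd_antisymm hdz h3
    have h5 := zpowers_eq_of_mem_of_orderOf_eq hx h4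
    exact hxz (h5 ▸ mem_zpowers z)

/-- the number of generators of `zpowers z` -/
theorem ncard_gens (z : G) :
    {x : G | zpowers x = zpowers z}.ncard = Nat.totient (orderOf z) := by
  classical
  have : Fintype (zpowers z) := Fintype.ofFinite _
  have h1 := IsCyclic.card_orderOf_eq_totient (α := zpowers z) (d := orderOf z)
    (by rw [← Nat.card_eq_fintype_card, Nat.card_zpowers])
  have h2 : {x : G | zpowers x = zpowers z} =
      Subtype.val '' {a : zpowers z | orderOf a = orderOf z} := by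
    ext x
    simp only [Set.mem_image]
    constructor
    · intro (hx : zpowers x = zpowers z)
      have hxz : x ∈ zpowers z := hx ▸ mem_zpowers x
      refine ⟨⟨x, hxz⟩, ?_, rfl⟩
      show orderOf (⟨x, hxz⟩ : zpowers z) = orderOf z
      rw [Subgroup.orderOf_mk, ← Nat.card_zpowers, hx, Nat.card_zpowers]
    · rintro ⟨a, (ha : orderOf a = orderOf z), rfl⟩
      show zpowers (a : G) = zpowers z
      apply zpowers_eq_of_mem_of_orderOf_eq a.2
      rw [← ha, Subgroup.orderOf_coe]
  rw [h2, Set.ncard_image_of_injective _ Subtype.val_injective, Set.ncard_eq_toFinset_card', ← h1]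
  congr 1
  ext a
  simp

end hub

section twin
variable {G : Type*} [Group G] [Finite G]

/-- an element of `zpowers z` of any order dividing `orderOf z` -/
theorem orderOf_pow_div {z : G} {n : ℕ} (hn : n ∣ orderOf z) :
    orderOf (z ^ (orderOf z / n)) = n := by
  have h0 : orderOf z ≠ 0 := (orderOf_pos z).ne'
  have h1 : orderOf z / n ∣ orderOf z := Nat.div_dvd_of_dvd hn
  have h2 : orderOf z / n ≠ 0 := by
    intro h
    rw [h] at h1
    exact h0 (Nat.eq_zero_of_zero_dvd h1)
  rw [orderOf_pow_of_dvd h2 h1]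
  exact Nat.div_div_self hn h0

/-- inside `zpowers z`, the only twins of the hub `z ^ m'` (of order `p ^ a`) are its generators -/
theorem twin_hub {z u' : G} {p a m' : ℕ} (hd : Dec (orderOf z) p a m') (hu' : u' ∈ zpowers z)
    (htw : ∀ v : G, adj u' v ↔ adj (z ^ m') v) : zpowers u' = zpowers (z ^ m') := by
  have hu : z ^ m' ∈ zpowers z := pow_mem (mem_zpowers z) _
  have hou : orderOf (z ^ m') = p ^ a := orderOf_hub₁ hd
  have hcop : Nat.Coprime (p ^ a) m' := Nat.Coprime.pow_left _ hd.cop
  have hdz : orderOf u' ∣ p ^ a * m' := hd.eq ▸ orderOf_dvd_of_mem_zpowers hu'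
  have hkey : orderOf u' = p ^ a := by
    have h1 : adj u' (z ^ m') := (htw _).2 (adj_self _)
    have h2 : orderOf u' ∣ p ^ a ∨ p ^ a ∣ orderOf u' := by
      rcases h1 with c | c
      · left; have := (mem_zpowers_iff_dvd hu' hu).1 c; rwa [hou] at this
      · right; have := (mem_zpowers_iff_dvd hu hu').1 c; rwa [hou] at this
    by_contra hne
    rcases h2 with h2 | h2
    · -- `orderOf u'` a proper divisor of `p ^ a`
      have hn : orderOf u' * m' ∣ orderOf z := by
        rw [hd.eq]; exact Nat.mul_dvd_mul_right h2 m'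
      have hc : z ^ (orderOf z / (orderOf u' * m')) ∈ zpowers z := pow_mem (mem_zpowers z) _
      have hoc := orderOf_pow_div hn
      have h3 : adj u' (z ^ (orderOf z / (orderOf u' * m'))) := by
        left
        rw [mem_zpowers_iff_dvd hu' hc, hoc]
        exact dvd_mul_right _ _
      rcases (htw _).1 h3 with c | c
      · have := (mem_zpowers_iff_dvd hu hc).1 c
        rw [hou, hoc] at this
        have h4 : p ^ a ∣ orderOf u' := hcop.dvd_of_dvd_mul_right this
        exact hne (Nat.dvd_antisymm h2 h4)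
      · have := (mem_zpowers_iff_dvd hc hu).1 c
        rw [hou, hoc] at this
        exact hd.not_dvd_pow ((dvd_mul_left _ _).trans this)
    · -- `orderOf u' = p ^ a * j` with `1 < j`, `j ∣ m'`
      obtain ⟨j, hj⟩ := h2
      have hpa : 0 < p ^ a := pow_pos hd.prime.pos _
      have hjm : j ∣ m' := by
        rw [hj] at hdz
        exact (Nat.mul_dvd_mul_iff_left hpa).1 hdz
      have hj1 : j ≠ 1 := by
        intro h; rw [h, mul_one] at hj; exact hne hj
      have hn : j ∣ orderOf z := by
        rw [hd.eq]; exact hjm.trans (dvd_mul_left _ _)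
      have hc : z ^ (orderOf z / j) ∈ zpowers z := pow_mem (mem_zpowers z) _
      have hoc := orderOf_pow_div hn
      have h3 : adj u' (z ^ (orderOf z / j)) := by
        right
        rw [mem_zpowers_iff_dvd hc hu', hoc, hj]
        exact dvd_mul_left _ _
      rcases (htw _).1 h3 with c | c
      · have := (mem_zpowers_iff_dvd hu hc).1 c
        rw [hou, hoc] at this
        exact hd.not_pow_dvd (this.trans hjm)
      · have := (mem_zpowers_iff_dvd hc hu).1 c
        rw [hou, hoc] at this
        exact hj1 (Nat.eq_one_of_dvd_coprimes hcop this hjm)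
  apply zpowers_eq_of_mem_of_mem
  · rw [mem_zpowers_iff_dvd hu' hu, hkey, hou]
  · rw [mem_zpowers_iff_dvd hu hu', hkey, hou]

end twin

end Cfsg.Agent.Lib.Helper5.PG
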