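import Mathlib
import Cfsg.Agent.Lib.Helper5.PG.Cyc

/-!
# Power graphs: a generator of a maximal cyclic subgroup of non-prime-power order keeps its order

Let `e : G ≃ H` preserve adjacency of power graphs with `e 1 = 1`, and let `z` generate a maximal
cyclic subgroup of `G` whose order is divisible by two primes.  Then `H` has an element of order
`orderOf z`.
-/

set_option autoImplicit false
set_option linter.unusedSectionVars false
set_option linter.unusedVariables false

namespace Cfsg.Agent.Lib.Helper5.PG

open Subgroup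

section key
variable {G H : Type*} [Group G] [Group H]

/-- the standing hypotheses -/
structure Setup (e : G ≃ H) (z : G) : Prop where
  he : ∀ x y : G, adj x y ↔ adj (e x) (e y)
  h1 : e 1 = 1
  hmax : ∀ y : G, z ∈ zpowers y → y ∈ zpowers z
  hwmax : ∀ z' : G, zpowers z' = zpowers z → orderOf (e z') ≤ orderOf (e z)

variable {e : G ≃ H} {z : G}

theorem Setup.adj_iff (S : Setup e z) (v : G) : adj z v ↔ v ∈ zpowers z :=
  ⟨fun h => h.elim (S.hmax v) id, Or.inr⟩

theorem Setup.adj_symm (S : Setup e z) (x : G) (y' : H) : adj x (e.symm y') ↔ adj (e x) y' := by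
  rw [S.he, e.apply_symm_apply]

theorem Setup.adj_symm' (S : Setup e z) (x' y' : H) :
    adj (e.symm x') (e.symm y') ↔ adj x' y' := by
  rw [S.he, e.apply_symm_apply, e.apply_symm_apply]

variable [Finite G] [Finite H]

theorem Setup.dom (S : Setup e z) {p a m' : ℕ} (hd : Dec (orderOf z) p a m') {x : G}
    (hx : ∀ v : G, adj z v → adj x v) : x = 1 ∨ zpowers x = zpowers z := by
  have hxz : x ∈ zpowers z := by
    rcases hx z (adj_self z) with h | h
    · exact h
    · exact S.hmax x h
  by_contra hcon
  obtain ⟨c1, c2⟩ := not_or.1 hcon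
  have hzx : z ∉ zpowers x := fun h => c2 (zpowers_eq_of_mem_of_mem hxz h)
  rcases hub hd hxz c1 hzx with h | h
  · exact h (hx _ (adj_pow z _))
  · exact h (hx _ (adj_pow z _))

theorem Setup.ne_one (S : Setup e z) {p a m' : ℕ} (hd : Dec (orderOf z) p a m') : z ≠ 1 := by
  intro h
  have h1 : orderOf z = 1 := by rw [h, orderOf_one]
  have h2 : p ∣ 1 := by
    rw [← h1, hd.eq]
    exact (dvd_pow_self p (Nat.pos_iff_ne_zero.1 hd.apos)).trans (dvd_mul_right _ _)
  exact hd.prime.one_lt.ne' (Nat.dvd_one.1 h2)

/-- Case A: the image has an order divisible by two primes -/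
theorem Setup.caseA (S : Setup e z) {p a m' : ℕ} (hd : Dec (orderOf z) p a m')
    (hA : TwoPr (orderOf (e z))) : orderOf (e z) = orderOf z := by
  have hw0 : orderOf (e z) ≠ 0 := (orderOf_pos (e z)).ne'
  obtain ⟨r, b, k', hdw, -⟩ := hA.exists_dec hw0
  have hw1 : e z ≠ 1 := by
    intro h
    apply S.ne_one hd
    apply e.injective
    rw [h, S.h1]
  have hU : ∀ y : H, e z ∈ zpowers y → y ∈ zpowers (e z) := by
    intro y hwy
    by_contra hyw
    have hyv : e (e.symm y) = y := e.apply_symm_apply y
    have hvz : e.symm y ∈ zpowers z := by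
      rw [← S.adj_iff, S.adj_symm]
      exact Or.inl hwy
    by_cases hv1 : e.symm y = 1
    · apply hyw
      rw [← hyv, hv1, S.h1]
      exact one_mem _
    by_cases hzv : z ∈ zpowers (e.symm y)
    · -- `y` is a twin of `e z`
      have hzz : zpowers (e.symm y) = zpowers z := zpowers_eq_of_mem_of_mem hvz hzv
      have htw : ∀ u' : H, adj y u' ↔ adj (e z) u' := by
        intro u'
        rw [← S.adj_symm, ← S.adj_symm', ]
        exact adj_congr_left hzz _
      have hy0 : orderOf y ≠ 0 := (orderOf_pos y).ne'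
      have hAy : TwoPr (orderOf y) := hA.mono (orderOf_dvd_of_mem_zpowers hwy)
      obtain ⟨r', b', k'', hdy, -⟩ := hAy.exists_dec hy0
      rcases hub hdy hwy hw1 hyw with h | h
      · exact h ((htw _).1 (adj_pow y _))
      · exact h ((htw _).1 (adj_pow y _))
    · -- `e.symm y` is a proper non-trivial element of `zpowers z`
      have key : ∀ h h' : G, h ∈ zpowers z → h' ∈ zpowers z → ¬ adj h h' →
          ¬ adj (e.symm y) h → e z ∈ zpowers (e h) ∧ e z ∈ zpowers (e h') := by
        intro h h' hh hh' hnn hvh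
        have a1 : adj (e z) (e h) := (S.he _ _).1 ((S.adj_iff h).2 hh)
        have a2 : adj (e z) (e h') := (S.he _ _).1 ((S.adj_iff h').2 hh')
        have n1 : ¬ adj y (e h) := by
          intro hc
          apply hvh
          rw [S.he, hyv]
          exact hc
        have n2 : ¬ adj (e h) (e h') := fun hc => hnn ((S.he _ _).2 hc)
        have u1 : e z ∈ zpowers (e h) := by
          rcases a1 with c | c
          · exact c
          · exact absurd (adj_comm.1 (adj_of_mem_of_mem c hwy)) n1
        have u2 : e z ∈ zpowers (e h') := by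
          rcases a2 with c | c
          · exact c
          · exact absurd (adj_comm.1 (adj_of_mem_of_mem c u1)) n2
        exact ⟨u1, u2⟩
      have hh1 : z ^ m' ∈ zpowers z := pow_mem (mem_zpowers z) _
      have hh2 : z ^ (p ^ a) ∈ zpowers z := pow_mem (mem_zpowers z) _
      have hup : e z ∈ zpowers (e (z ^ m')) ∧ e z ∈ zpowers (e (z ^ (p ^ a))) := by
        rcases hub hd hvz hv1 hzv with h | h
        · exact key _ _ hh1 hh2 (hub_not_adj hd) h
        · exact (key _ _ hh2 hh1 (fun hc => hub_not_adj hd (adj_comm.1 hc)) h).symm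
      -- the hub `x₁` of `zpowers (e z)`
      have hx1w : (e z) ^ k' ∈ zpowers (e z) := pow_mem (mem_zpowers _) _
      have hxe : e (e.symm ((e z) ^ k')) = (e z) ^ k' := e.apply_symm_apply _
      have huz : e.symm ((e z) ^ k') ∈ zpowers z := by
        rw [← S.adj_iff, S.adj_symm]
        exact Or.inr hx1w
      have hu1 : e.symm ((e z) ^ k') ≠ 1 := by
        intro h
        have h2 : (e z) ^ k' = 1 := by rw [← hxe, h, S.h1]
        have h3 := orderOf_hub₁ hdw
        rw [h2, orderOf_one] at h3
        have h4 : r ∣ 1 := by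
          rw [h3]; exact dvd_pow_self r (Nat.pos_iff_ne_zero.1 hdw.apos)
        exact hdw.prime.one_lt.ne' (Nat.dvd_one.1 h4)
      have hzu : z ∉ zpowers (e.symm ((e z) ^ k')) := by
        intro h
        have hzz : zpowers (e.symm ((e z) ^ k')) = zpowers z := zpowers_eq_of_mem_of_mem huz h
        have htw : ∀ u' : H, adj ((e z) ^ k') u' ↔ adj (e z) u' := by
          intro u'
          rw [← S.adj_symm, ← S.adj_symm']
          exact adj_congr_left hzz _
        exact hub_not_adj hdw ((htw _).2 (adj_pow _ _))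
      rcases hub hd huz hu1 hzu with h | h
      · apply h
        rw [S.he, hxe]
        exact adj_of_mem_of_mem hx1w hup.1
      · apply h
        rw [S.he, hxe]
        exact adj_of_mem_of_mem hx1w hup.2
  have hN : ∀ v : G, v ∈ zpowers z ↔ e v ∈ zpowers (e z) := by
    intro v
    rw [← S.adj_iff, S.he]
    constructor
    · rintro (h | h)
      · exact hU _ h
      · exact h
    · exact Or.inr
  rw [← Nat.card_zpowers, ← Nat.card_zpowers]
  exact (Nat.card_congr (e.subtypeEquiv hN)).symm

/-- `l ^ t ≤ 2 * φ (l ^ t)` -/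
theorem pow_le_two_mul_totient {l t : ℕ} (hl : l.Prime) (ht : 0 < t) :
    l ^ t ≤ 2 * Nat.totient (l ^ t) := by
  obtain ⟨s, rfl⟩ : ∃ s, t = s + 1 := ⟨t - 1, by omega⟩
  rw [Nat.totient_prime_pow_succ hl, pow_succ]
  have h2 := hl.two_le
  have h3 : l ≤ 2 * (l - 1) := by omega
  calc l ^ s * l ≤ l ^ s * (2 * (l - 1)) := Nat.mul_le_mul_left _ h3
    _ = 2 * (l ^ s * (l - 1)) := by ring

/-- Case B: the image has prime power order; impossible. -/
theorem Setup.caseB (S : Setup e z) {p a m' : ℕ} (hd : Dec (orderOf z) p a m') (h3 : 3 ≤ m')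
    {l t : ℕ} (hl : l.Prime) (ht : orderOf (e z) = l ^ t) : False := by
  have hw1 : e z ≠ 1 := by
    intro h
    apply S.ne_one hd
    apply e.injective
    rw [h, S.h1]
  have ht0 : 0 < t := by
    rcases Nat.eq_zero_or_pos t with h | h
    · rw [h, pow_zero] at ht
      exact absurd (orderOf_eq_one_iff.1 ht) hw1
    · exact h
  -- (B1) every element of `zpowers (e z)` dominates `e z`
  have hB1 : ∀ x ∈ zpowers (e z), ∀ v' : H, adj (e z) v' → adj x v' := by
    intro x hx v' hv'
    rcases hv' with h | h
    · exact adj_of_mem_of_mem hx h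
    · obtain ⟨i, -, hi⟩ := (Nat.dvd_prime_pow hl).1 (ht ▸ orderOf_dvd_of_mem_zpowers hx)
      obtain ⟨j, -, hj⟩ := (Nat.dvd_prime_pow hl).1 (ht ▸ orderOf_dvd_of_mem_zpowers h)
      rcases le_total i j with hij | hij
      · left; rw [mem_zpowers_iff_dvd hx h, hi, hj]; exact pow_dvd_pow _ hij
      · right; rw [mem_zpowers_iff_dvd h hx, hi, hj]; exact pow_dvd_pow _ hij
  -- (B2a)
  have hB2a : ∀ x ∈ zpowers (e z), e.symm x = 1 ∨ zpowers (e.symm x) = zpowers z := by
    intro x hx
    apply S.dom hd
    intro v hv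
    rw [S.he, e.apply_symm_apply]
    exact hB1 x hx _ ((S.he _ _).1 hv)
  -- (B2b)
  have hB2b : ∀ z' : G, zpowers z' = zpowers z → e z' ∈ zpowers (e z) := by
    intro z' hz'
    have h1 : adj z' z := Or.inl (hz' ▸ mem_zpowers z')
    rcases (S.he _ _).1 h1 with h | h
    · exact h
    · have h2 : orderOf (e z) ∣ orderOf (e z') := orderOf_dvd_of_mem_zpowers h
      have h3 : orderOf (e z') ≤ orderOf (e z) := S.hwmax z' hz'
      have h4 : orderOf (e z) = orderOf (e z') :=
        Nat.le_antisymm (Nat.le_of_dvd (orderOf_pos _) h2) h3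
      have h5 := zpowers_eq_of_mem_of_orderOf_eq h h4
      exact h5 ▸ mem_zpowers (e z')
  -- (B3) counting
  have hcount : Nat.totient (orderOf z) + 1 ≤ l ^ t := by
    have hnot : (1 : G) ∉ {x : G | zpowers x = zpowers z} := by
      intro (h : zpowers (1 : G) = zpowers z)
      apply S.ne_one hd
      have : z ∈ zpowers (1 : G) := h ▸ mem_zpowers z
      rw [zpowers_one_eq_bot] at this
      exact mem_bot.1 this
    have hsub : e '' (insert 1 {x : G | zpowers x = zpowers z}) ⊆ (zpowers (e z) : Set H) := by
      rintro _ ⟨x, hx, rfl⟩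
      rcases hx with rfl | hx
      · rw [S.h1]; exact one_mem _
      · exact hB2b x hx
    have hle := Set.ncard_le_ncard hsub (Set.toFinite _)
    rw [Set.ncard_image_of_injective _ e.injective,
      Set.ncard_insert_of_notMem hnot (Set.toFinite _), ncard_gens] at hle
    have hc : ((zpowers (e z) : Subgroup H) : Set H).ncard = l ^ t := by
      rw [← Nat.card_coe_set_eq, ← ht]
      exact Nat.card_zpowers (e z)
    rw [hc] at hle
    exact hle
  -- (B4) the hub of order `p ^ a`
  have hu : z ^ m' ∈ zpowers z := pow_mem (mem_zpowers z) _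
  have hy_not : e (z ^ m') ∉ zpowers (e z) := by
    intro h
    rcases hB2a _ h with h' | h'
    · rw [e.symm_apply_apply] at h'
      apply hub_not_adj hd
      rw [h']; exact adj_one _
    · rw [e.symm_apply_apply] at h'
      apply hub_not_adj hd
      rw [adj_congr_left h']
      exact adj_pow z _
  have hwy : e z ∈ zpowers (e (z ^ m')) := by
    rcases (S.he _ _).1 ((S.adj_iff _).2 hu) with h | h
    · exact h
    · exact absurd h hy_not
  -- (B6) generators of `zpowers (e u)` come from generators of `zpowers u`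
  have hinj : ∀ y' : H, zpowers y' = zpowers (e (z ^ m')) →
      zpowers (e.symm y') = zpowers (z ^ m') := by
    intro y' hy'
    have hu'z : e.symm y' ∈ zpowers z := by
      rw [← S.adj_iff, S.adj_symm]
      left
      rw [hy']; exact hwy
    apply twin_hub hd hu'z
    intro v
    rw [S.he, e.apply_symm_apply, S.he]
    exact adj_congr_left hy' _
  have hYA : Nat.totient (orderOf (e (z ^ m'))) ≤ Nat.totient (p ^ a) := by
    have hsub : e.symm '' {y' : H | zpowers y' = zpowers (e (z ^ m'))} ⊆
        {x : G | zpowers x = zpowers (z ^ m')} := by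
      rintro _ ⟨y', hy', rfl⟩
      exact hinj y' hy'
    have hle := Set.ncard_le_ncard hsub (Set.toFinite _)
    rw [Set.ncard_image_of_injective _ e.symm.injective, ncard_gens, ncard_gens,
      orderOf_hub₁ hd] at hle
    exact hle
  -- (B7) numerics
  have hTY : Nat.totient (l ^ t) ≤ Nat.totient (orderOf (e (z ^ m'))) := by
    apply Nat.le_of_dvd (Nat.totient_pos.2 (orderOf_pos _))
    apply Nat.totient_dvd_of_dvd
    rw [← ht]
    exact orderOf_dvd_of_mem_zpowers hwy
  have hM : Nat.totient (orderOf z) = Nat.totient (p ^ a) * Nat.totient m' := by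
    rw [hd.eq]
    exact Nat.totient_mul (Nat.Coprime.pow_left _ hd.cop)
  have hB : 2 ≤ Nat.totient m' := by
    have h1 : 0 < Nat.totient m' := Nat.totient_pos.2 (by omega)
    have h2 : Even (Nat.totient m') := Nat.totient_even (by omega)
    obtain ⟨c, hc⟩ := h2
    omega
  have hL := pow_le_two_mul_totient hl ht0
  have hAB : Nat.totient (p ^ a) * 2 ≤ Nat.totient (p ^ a) * Nat.totient m' :=
    Nat.mul_le_mul_left _ hB
  omega

/-- **Key theorem.** A generator of a maximal cyclic subgroup of order divisible by two primes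
is matched by an element of the same order. -/
theorem key {e : G ≃ H} (he : ∀ x y : G, adj x y ↔ adj (e x) (e y)) (h1 : e 1 = 1) {z : G}
    (hmax : ∀ y : G, z ∈ zpowers y → y ∈ zpowers z) (hTwo : TwoPr (orderOf z)) :
    ∃ w : H, orderOf w = orderOf z := by
  have : Nonempty {z' : G // zpowers z' = zpowers z} := ⟨⟨z, rfl⟩⟩
  obtain ⟨⟨z', hz'⟩, hmaxw⟩ :=
    Finite.exists_max (fun z' : {z' : G // zpowers z' = zpowers z} => orderOf (e z'.1))
  have hoz : orderOf z' = orderOf z := by rw [← Nat.card_zpowers, hz', Nat.card_zpowers]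
  have S : Setup e z' :=
    { he := he
      h1 := h1
      hmax := fun y hy => by
        have hzz' : z ∈ zpowers z' := hz' ▸ mem_zpowers z
        have hzy : z ∈ zpowers y := (zpowers_le.2 hy) hzz'
        rw [hz']; exact hmax y hzy
      hwmax := fun z'' hz'' => hmaxw ⟨z'', hz''.trans hz'⟩ }
  have hz0 : orderOf z' ≠ 0 := (orderOf_pos z').ne'
  have hTwo' : TwoPr (orderOf z') := by rw [hoz]; exact hTwo
  obtain ⟨p, a, m', hd, h3⟩ := hTwo'.exists_dec hz0
  by_cases hA : TwoPr (orderOf (e z'))
  · exact ⟨e z', (S.caseA hd hA).trans hoz⟩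
  · exfalso
    have hw1 : e z' ≠ 1 := by
      intro h
      apply S.ne_one hd
      apply e.injective
      rw [h, h1]
    obtain ⟨l, t, hl, -, ht⟩ := exists_prime_pow_of_not_twoPr (orderOf_pos (e z')).ne'
      (fun h => hw1 (orderOf_eq_one_iff.1 h)) hA
    exact S.caseB hd h3 hl ht

end key

end Cfsg.Agent.Lib.Helper5.PG
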