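import Mathlib
import Cfsg.Agent.Lib.Helper5.PG.Key

/-!
# Power graphs: isomorphic power graphs give the same prime graph (one direction)
-/

set_option autoImplicit false
set_option linter.unusedSectionVars false

namespace Cfsg.Agent.Lib.Helper5.PG

open Subgroup

/-- a non-identity vertex joined to all others: the group is cyclic or of prime power order -/
theorem univ_case {H : Type*} [Group H] [Finite H] {x : H} (hx1 : x ≠ 1) (hx : ∀ y : H, adj x y)
    {p q : ℕ} (hp : p.Prime) (hq : q.Prime) (hpq : p ≠ q) (hcard : p * q ∣ Nat.card H) :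
    ∃ h : H, orderOf h = p * q := by
  by_cases hA : TwoPr (orderOf x)
  · have htop : ∀ y : H, y ∈ zpowers x := by
      intro y
      by_contra hy
      have hxy : x ∈ zpowers y := by
        rcases hx y with h | h
        · exact h
        · exact absurd h hy
      have hAy := hA.mono (orderOf_dvd_of_mem_zpowers hxy)
      obtain ⟨r, b, k, hdy, -⟩ := hAy.exists_dec (orderOf_pos y).ne'
      rcases hub hdy hxy hx1 hy with h | h
      · exact h (hx _)
      · exact h (hx _)
    have hcardx : orderOf x = Nat.card H := by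
      have h1 : zpowers x = ⊤ := (Subgroup.eq_top_iff' _).2 htop
      rw [← Nat.card_zpowers, h1, Subgroup.card_top]
    exact ⟨x ^ (orderOf x / (p * q)), orderOf_pow_div (hcardx ▸ hcard)⟩
  · obtain ⟨l, t, hl, ht0, ht⟩ := exists_prime_pow_of_not_twoPr (orderOf_pos x).ne'
      (fun h => hx1 (orderOf_eq_one_iff.1 h)) hA
    exfalso
    have aux : ∀ r : ℕ, r.Prime → r ∣ Nat.card H → r = l := by
      intro r hr hrc
      have := Fact.mk hr
      obtain ⟨y, hy⟩ := exists_prime_orderOf_dvd_card' r hrc
      rcases hx y with h | h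
      · have h2 := orderOf_dvd_of_mem_zpowers h
        rw [ht, hy] at h2
        have hlr : l ∣ r := (dvd_pow_self l ht0.ne').trans h2
        exact ((Nat.prime_dvd_prime_iff_eq hl hr).1 hlr).symm
      · have h2 := orderOf_dvd_of_mem_zpowers h
        rw [ht, hy] at h2
        exact Nat.prime_eq_prime_of_dvd_pow hr hl h2
    exact hpq ((aux p hp ((dvd_mul_right _ _).trans hcard)).trans
      (aux q hq ((dvd_mul_left _ _).trans hcard)).symm)

/-- one direction of the theorem -/
theorem one_dir {G H : Type*} [Group G] [Finite G] [Group H] [Finite H] (e : G ≃ H)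
    (he : ∀ x y : G, adj x y ↔ adj (e x) (e y)) {p q : ℕ} (hp : p.Prime) (hq : q.Prime)
    (hpq : p ≠ q) (hg : ∃ g : G, orderOf g = p * q) : ∃ h : H, orderOf h = p * q := by
  obtain ⟨g, hg⟩ := hg
  by_cases hS : ∃ x : H, x ≠ 1 ∧ ∀ y : H, adj x y
  · obtain ⟨x, hx1, hx⟩ := hS
    apply univ_case hx1 hx hp hq hpq
    rw [← Nat.card_congr e, ← hg]
    exact orderOf_dvd_natCard g
  · have hS' : ∀ x : H, (∀ y : H, adj x y) → x = 1 := by
      intro x hx
      by_contra h
      exact hS ⟨x, h, hx⟩
    have h1 : e 1 = 1 := by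
      apply hS'
      intro y
      have := (he 1 (e.symm y)).1 (adj_one _)
      rwa [e.apply_symm_apply] at this
    have : Nonempty {z : G // g ∈ zpowers z} := ⟨⟨g, mem_zpowers g⟩⟩
    obtain ⟨⟨z, hgz⟩, hzmax⟩ :=
      Finite.exists_max (fun z : {z : G // g ∈ zpowers z} => orderOf z.1)
    have hmax : ∀ y : G, z ∈ zpowers y → y ∈ zpowers z := by
      intro y hy
      have hgy : g ∈ zpowers y := (zpowers_le.2 hy) hgz
      have h1 : orderOf y ≤ orderOf z := hzmax ⟨y, hgy⟩
      have h2 : orderOf z ∣ orderOf y := orderOf_dvd_of_mem_zpowers hy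
      have h3 : orderOf z = orderOf y :=
        Nat.le_antisymm (Nat.le_of_dvd (orderOf_pos y) h2) h1
      have h4 := zpowers_eq_of_mem_of_orderOf_eq hy h3
      exact h4 ▸ mem_zpowers y
    have hdvd : p * q ∣ orderOf z := hg ▸ orderOf_dvd_of_mem_zpowers hgz
    have hTwo : TwoPr (orderOf z) :=
      ⟨p, q, hp, hq, hpq, (dvd_mul_right _ _).trans hdvd, (dvd_mul_left _ _).trans hdvd⟩
    obtain ⟨w, hw⟩ := key he h1 hmax hTwo
    exact ⟨w ^ (orderOf w / (p * q)), orderOf_pow_div (hw ▸ hdvd)⟩

end Cfsg.Agent.Lib.Helper5.PG
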